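import Groth.Agent.QCAlgGen.Basic

/-!
# The quasi-coherent subalgebra generated by a finite type submodule

`subAlg M` for `GenOn B.toModule M ⊤`: sections locally in `genRing M`; on affine opens it is
`genRing M U`, a finite type algebra.
-/

set_option linter.style.haveILetI false

universe u

open AlgebraicGeometry CategoryTheory TopologicalSpace Opposite

namespace Groth.Agent.QCAlgGen

open Groth.Agent.SubSheafExt

variable {X : Scheme.{u}} {B : RelSpec.QCAlg X} (M : Sub B.toModule)

/-- Sections locally generated by functions and `M`. -/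
def locRing (U : X.Opens) : Subring (B.presheaf.obj (op U)) where
  carrier := {b | ∀ y ∈ U, ∃ (W : X.Opens) (h : W ≤ U), y ∈ W ∧ res B h b ∈ genRing M W}
  zero_mem' y hy := ⟨U, le_rfl, hy, by rw [map_zero]; exact zero_mem _⟩
  one_mem' y hy := ⟨U, le_rfl, hy, by rw [map_one]; exact one_mem _⟩
  add_mem' {a b} ha hb y hy := by
    obtain ⟨W, hW, hyW, ha⟩ := ha y hy
    obtain ⟨W', hW', hyW', hb⟩ := hb y hy
    refine ⟨W ⊓ W', inf_le_left.trans hW, ⟨hyW, hyW'⟩, ?_⟩
    rw [map_add]
    refine add_mem ?_ ?_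
    · have := res_mem_genRing M (inf_le_left : W ⊓ W' ≤ W) ha; rwa [res_res] at this
    · have := res_mem_genRing M (inf_le_right : W ⊓ W' ≤ W') hb; rwa [res_res] at this
  mul_mem' {a b} ha hb y hy := by
    obtain ⟨W, hW, hyW, ha⟩ := ha y hy
    obtain ⟨W', hW', hyW', hb⟩ := hb y hy
    refine ⟨W ⊓ W', inf_le_left.trans hW, ⟨hyW, hyW'⟩, ?_⟩
    rw [map_mul]
    refine mul_mem ?_ ?_
    · have := res_mem_genRing M (inf_le_left : W ⊓ W' ≤ W) ha; rwa [res_res] at this
    · have := res_mem_genRing M (inf_le_right : W ⊓ W' ≤ W') hb; rwa [res_res] at this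
  neg_mem' {a} ha y hy := by
    obtain ⟨W, hW, hyW, ha⟩ := ha y hy
    exact ⟨W, hW, hyW, by rw [map_neg]; exact neg_mem ha⟩

lemma genRing_le_locRing (U : X.Opens) : genRing M U ≤ locRing M U :=
  fun b hb _ hy => ⟨U, le_rfl, hy, res_mem_genRing M _ hb⟩

lemma res_mem_locRing {U V : X.Opens} (h : V ≤ U) {b : B.presheaf.obj (op U)} (hb : b ∈ locRing M U) :
    res B h b ∈ locRing M V := by
  intro y hy
  obtain ⟨W, hW, hyW, hb⟩ := hb y (h hy)
  refine ⟨W ⊓ V, inf_le_right, ⟨hyW, hy⟩, ?_⟩
  have := res_mem_genRing M (inf_le_left : W ⊓ V ≤ W) hb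
  rw [res_res] at this ⊢
  exact this

lemma locRing_eq_genRing (hM : GenOn M ⊤) {U : X.Opens} (hU : IsAffineOpen U) :
    locRing M U = genRing M U := by
  refine le_antisymm (fun b hb => ?_) (genRing_le_locRing M U)
  let J : Ideal Γ(X, U) :=
    { carrier := {r | str B U r * b ∈ genRing M U}
      add_mem' := fun {p q} hp hq => by
        change str B U (p + q) * b ∈ genRing M U
        rw [map_add, add_mul]; exact add_mem hp hq
      zero_mem' := by
        change str B U 0 * b ∈ genRing M U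
        rw [map_zero, zero_mul]; exact zero_mem _
      smul_mem' := fun p q hq => by
        change str B U (p * q) * b ∈ genRing M U
        rw [map_mul, mul_assoc]; exact mul_mem (str_mem_genRing M p) hq }
  suffices J = ⊤ by
    have h1 : str B U 1 * b ∈ genRing M U := (J.eq_top_iff_one).mp this
    rwa [map_one, one_mul] at h1
  by_contra hJ
  obtain ⟨m, hm, hJm⟩ := Ideal.exists_le_maximal J hJ
  let y := hU.fromSpec ⟨m, hm.isPrime⟩
  have hy : y ∈ U := by
    change y ∈ (U : Set X)
    rw [← hU.range_fromSpec]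
    exact Set.mem_range_self _
  have hp : hU.primeIdealOf ⟨y, hy⟩ = ⟨m, hm.isPrime⟩ :=
    hU.fromSpec.isOpenEmbedding.injective (hU.fromSpec_primeIdealOf _)
  obtain ⟨W, hWU, hyW, hbW⟩ := hb y hy
  obtain ⟨g, hgW, hyg⟩ := hU.exists_basicOpen_le ⟨y, hyW⟩ hy
  have hb'' := res_mem_genRing M hgW hbW
  rw [res_res] at hb''
  obtain ⟨k, c', hc', e⟩ := exists_pow_mul_mem_genRing M hM hU g hb''
  rw [← map_pow, ← map_mul, ← sub_eq_zero, ← map_sub] at e
  obtain ⟨l, hl⟩ := exists_pow_mul_of_res_eq_zero B hU g _ e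
  have hgJ : g ^ (l + k) ∈ J := by
    change str B U (g ^ (l + k)) * b ∈ genRing M U
    rw [mul_sub, sub_eq_zero] at hl
    rw [map_pow, pow_add, mul_assoc, ← hl]
    exact mul_mem (pow_mem (str_mem_genRing M g) _) hc'
  have := (Groth.Agent.QCohLib.mem_basicOpen_iff_notMem_primeIdealOf hU hy g).mp hyg
  rw [hp] at this
  exact this (hm.isPrime.mem_of_pow_mem _ (hJm hgJ))

/-- The presheaf of rings `locRing M`. -/
noncomputable def subPresheaf : TopCat.Presheaf CommRingCat.{u} X.carrier where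
  obj U := CommRingCat.of (locRing M U.unop)
  map {U V} f := CommRingCat.ofHom
    ((B.presheaf.map f).hom.restrict (locRing M U.unop) (locRing M V.unop) fun b hb =>
      res_mem_locRing M f.unop.le hb)
  map_id U := by
    ext b
    change B.presheaf.map (𝟙 U) b.1 = b.1
    rw [B.presheaf.map_id]; rfl
  map_comp f g := by
    ext b
    change B.presheaf.map (f ≫ g) b.1 = _
    rw [B.presheaf.map_comp]; rfl

lemma isSheaf_subPresheaf : (subPresheaf M).IsSheaf := by
  rw [TopCat.Presheaf.isSheaf_iff_isSheafUniqueGluing]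
  intro ι V sf hsf
  let S : TopCat.Sheaf CommRingCat.{u} X := ⟨B.presheaf, B.isSheaf⟩
  have hc : TopCat.Presheaf.IsCompatible S.obj V (fun i => ((sf i).1 : B.presheaf.obj (op (V i)))) := fun i j =>
    congrArg Subtype.val (hsf i j)
  obtain ⟨σ, hσ, huniq⟩ := S.existsUnique_gluing V _ hc
  refine ⟨⟨σ, fun y hy => ?_⟩, fun i => Subtype.ext (hσ i), fun τ hτ =>
    Subtype.ext (huniq τ.1 fun i => congrArg Subtype.val (hτ i))⟩
  obtain ⟨i, hi⟩ := Opens.mem_iSup.mp hy
  obtain ⟨W, hW, hyW, hb⟩ := (sf i).2 y hi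
  refine ⟨W, hW.trans (le_iSup V i), hyW, ?_⟩
  have h2 : res B (hW.trans (le_iSup V i)) σ = res B hW (sf i).1 := by
    rw [← res_res B (le_iSup V i) hW]
    exact congrArg _ (hσ i)
  rw [h2]; exact hb

/-- The subalgebra. -/
noncomputable def subAlg (hM : GenOn M ⊤) : RelSpec.QCAlg X where
  presheaf := subPresheaf M
  isSheaf := isSheaf_subPresheaf M
  str :=
    { app := fun U => CommRingCat.ofHom
        ((str B U.unop).codRestrict (locRing M U.unop) fun r => genRing_le_locRing M _ (str_mem_genRing M r))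
      naturality := fun U V f => by
        ext r
        refine Subtype.ext ?_
        exact (res_str B f.unop.le r).symm }
  isQC := fun U hU r => by
    let ρ : locRing M U →+* locRing M (X.basicOpen r) :=
      (res B (X.basicOpen_le r)).restrict (locRing M U) (locRing M (X.basicOpen r))
        fun b hb => res_mem_locRing M (X.basicOpen_le r) hb
    let s : locRing M U := ⟨str B U r, genRing_le_locRing M _ (str_mem_genRing M r)⟩
    change @IsLocalization _ _ (Submonoid.powers s) (locRing M (X.basicOpen r)) _ ρ.toAlgebra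
    letI := ρ.toAlgebra
    have hu : IsUnit (X.presheaf.map (homOfLE (X.basicOpen_le r)).op r) :=
      X.toRingedSpace.isUnit_res_basicOpen r
    obtain ⟨w, hw⟩ := hu.exists_left_inv
    refine ⟨fun z => ?_, ?_, ?_⟩
    · obtain ⟨_, n, rfl⟩ := z
      rw [map_pow]
      refine IsUnit.pow _ (IsUnit.of_mul_eq_one
        (⟨str B _ w, genRing_le_locRing M _ (str_mem_genRing M w)⟩ : locRing M (X.basicOpen r)) (Subtype.ext ?_))
      change res B _ (str B U r) * str B _ w = 1
      rw [res_str, ← map_mul, mul_comm, hw, map_one]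
    · intro z
      have hz : z.1 ∈ genRing M (X.basicOpen r) := (locRing_eq_genRing M hM (hU.basicOpen r)).le z.2
      obtain ⟨n, c, hc, e⟩ := exists_pow_mul_mem_genRing M hM hU r hz
      refine ⟨⟨⟨c, genRing_le_locRing M _ hc⟩, ⟨s ^ n, n, rfl⟩⟩, Subtype.ext ?_⟩
      change z.1 * res B _ (str B U r ^ n) = res B _ c
      rw [e, map_pow, mul_comm]
    · intro a b hab
      have h1 : res B (X.basicOpen_le r) (a.1 - b.1) = 0 := by
        rw [map_sub, sub_eq_zero]; exact congrArg Subtype.val hab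
      obtain ⟨n, hn⟩ := exists_pow_mul_of_res_eq_zero B hU r _ h1
      refine ⟨⟨s ^ n, n, rfl⟩, Subtype.ext ?_⟩
      change str B U r ^ n * a.1 = str B U r ^ n * b.1
      rw [← sub_eq_zero, ← mul_sub, hn]

/-- The inclusion. -/
noncomputable def subAlgι (hM : GenOn M ⊤) : subAlg M hM ⟶ B :=
  ⟨{ app := fun U => CommRingCat.ofHom (locRing M U.unop).subtype }, by ext; rfl⟩

lemma finiteType_subAlg (hM : GenOn M ⊤) (U : X.affineOpens) :
    ((subAlg M hM).str.app (op (U : X.Opens))).hom.FiniteType := by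
  classical
  haveI := isQuasicoherent_toModule B
  haveI := Groth.Agent.SubSheafExt.isQuasicoherent_toModule (F := B.toModule) hM
  obtain ⟨T, hT⟩ := (Groth.Agent.QCohLib.finite_sections (toModule B.toModule M)
    (isFiniteType_toModule hM) U.2).fg_top
  letI alg : Algebra Γ(X, U.1) (locRing M U.1) :=
    ((str B U.1).codRestrict (locRing M U.1) fun r => genRing_le_locRing M _ (str_mem_genRing M r)).toAlgebra
  change @Algebra.FiniteType Γ(X, U.1) (locRing M U.1) _ _ alg
  let T' : Finset (locRing M U.1) := T.image fun t =>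
    (⟨t.1, genRing_le_locRing M _ (Subring.subset_closure (Or.inr t.2))⟩ : locRing M U.1)
  refine ⟨⟨T', eq_top_iff.mpr fun b _ => ?_⟩⟩
  suffices H : ∀ z ∈ genRing M U.1, ∃ z' ∈ Algebra.adjoin Γ(X, U) (T' : Set (locRing M U.1)), z'.1 = z by
    obtain ⟨z', hz', e⟩ := H b.1 ((locRing_eq_genRing M hM U.2).le b.2)
    exact Subtype.ext e ▸ hz'
  intro z hz
  induction hz using Subring.closure_induction with
  | mem z hz =>
    rcases hz with ⟨r, rfl⟩ | hz
    · exact ⟨_, Subalgebra.algebraMap_mem _ r, rfl⟩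
    · have hspan : (⟨sec B z, hz⟩ : Γ(toModule B.toModule M, U.1)) ∈
          Submodule.span Γ(X, U.1) (T : Set Γ(toModule B.toModule M, U.1)) := by rw [hT]; trivial
      suffices H : ∀ m ∈ Submodule.span Γ(X, U.1) (T : Set Γ(toModule B.toModule M, U.1)),
          ∃ z' ∈ Algebra.adjoin Γ(X, U) (T' : Set (locRing M U.1)), z'.1 = m.1 from H _ hspan
      intro m hm
      induction hm using Submodule.span_induction with
      | mem m hm => exact ⟨_, Algebra.subset_adjoin (Finset.mem_image_of_mem _ hm), rfl⟩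
      | zero => exact ⟨0, zero_mem _, rfl⟩
      | add a b _ _ ha hb =>
        obtain ⟨a', ha', ea⟩ := ha
        obtain ⟨b', hb', eb⟩ := hb
        exact ⟨a' + b', add_mem ha' hb', congrArg₂ (· + ·) ea eb⟩
      | smul r a _ ha =>
        obtain ⟨a', ha', ea⟩ := ha
        exact ⟨algebraMap _ _ r * a', mul_mem (Subalgebra.algebraMap_mem _ r) ha',
          congrArg (str B U.1 r * ·) ea⟩
  | zero => exact ⟨0, zero_mem _, rfl⟩
  | one => exact ⟨1, one_mem _, rfl⟩
  | add a b _ _ ha hb =>
    obtain ⟨a', ha', ea⟩ := ha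
    obtain ⟨b', hb', eb⟩ := hb
    exact ⟨a' + b', add_mem ha' hb', congrArg₂ (· + ·) ea eb⟩
  | neg a _ ha =>
    obtain ⟨a', ha', ea⟩ := ha
    exact ⟨-a', neg_mem ha', congrArg Neg.neg ea⟩
  | mul a b _ _ ha hb =>
    obtain ⟨a', ha', ea⟩ := ha
    obtain ⟨b', hb', eb⟩ := hb
    exact ⟨a' * b', mul_mem ha' hb', congrArg₂ (· * ·) ea eb⟩

/-- A finite type subalgebra through a section. -/
lemma exists_subalgebra_through (B : RelSpec.QCAlg X) {U : X.Opens} (b : B.presheaf.obj (op U))
    (H : ∃ M : Sub B.toModule, GenOn M ⊤ ∧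
      ∀ (y : X) (hy : y ∈ U), B.toModule.presheaf.germ U y hy (sec B b) ∈ M y) :
    ∃ (B' : RelSpec.QCAlg X) (φ : B' ⟶ B),
      (∀ V : X.Opens, Function.Injective (φ.hom.app (op V)).hom) ∧
      (∀ V : X.affineOpens, (B'.str.app (op (V : X.Opens))).hom.FiniteType) ∧
      b ∈ Set.range (φ.hom.app (op U)).hom := by
  obtain ⟨M, hM, hb⟩ := H
  exact ⟨subAlg M hM, subAlgι M hM, fun V => Subtype.val_injective, finiteType_subAlg M hM,
    ⟨b, genRing_le_locRing M U (Subring.subset_closure (Or.inr hb))⟩, rfl⟩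

end Groth.Agent.QCAlgGen
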