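import Groth.Prelude.Def_RelSpec
import Groth.Agent.SubSheafExt.Generators

/-!
# Finite type generators of quasi-coherent algebras

* `isQuasicoherent_toModule`: the module of a `RelSpec.QCAlg` is quasi-coherent;
* `exists_generating_sub`: a finite type quasi-coherent submodule generating an algebra of finite type.
-/

set_option linter.style.haveILetI false

universe u

open AlgebraicGeometry CategoryTheory TopologicalSpace Opposite

namespace Groth.Agent.QCAlgGen

open Groth.Agent.SubSheafExt

variable {X : Scheme.{u}} (B : RelSpec.QCAlg X)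

/-- Sections of the algebra as sections of its module. -/
abbrev sec {U : X.Opens} (b : B.presheaf.obj (op U)) : Γ(B.toModule, U) := b

/-- The restriction map of the algebra. -/
abbrev res {U V : X.Opens} (h : V ≤ U) : B.presheaf.obj (op U) →+* B.presheaf.obj (op V) :=
  (B.presheaf.map (homOfLE h).op).hom

/-- The structure map on sections. -/
abbrev str (U : X.Opens) : Γ(X, U) →+* B.presheaf.obj (op U) := (B.str.app (op U)).hom

lemma res_str {U V : X.Opens} (h : V ≤ U) (r : Γ(X, U)) :
    res B h (str B U r) = str B V (X.presheaf.map (homOfLE h).op r) :=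
  (congrArg (fun ψ => ψ.hom r) (B.str.naturality (homOfLE h).op)).symm

lemma res_res {U V W : X.Opens} (h : V ≤ U) (h' : W ≤ V) (b : B.presheaf.obj (op U)) :
    res B h' (res B h b) = res B (h'.trans h) b := by
  simp only [res]
  rw [← CategoryTheory.comp_apply, ← B.presheaf.map_comp]
  rfl

lemma exists_pow_mul_of_res_eq_zero {U : X.Opens} (hU : IsAffineOpen U) (f : Γ(X, U))
    (b : B.presheaf.obj (op U)) (h : res B (X.basicOpen_le f) b = 0) :
    ∃ n : ℕ, str B U f ^ n * b = 0 := by
  letI := (res B (X.basicOpen_le f)).toAlgebra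
  haveI : IsLocalization.Away (str B U f) (B.presheaf.obj (op (X.basicOpen f))) := B.isQC U hU f
  obtain ⟨⟨_, n, rfl⟩, hn⟩ := (IsLocalization.map_eq_zero_iff (Submonoid.powers (str B U f))
    (B.presheaf.obj (op (X.basicOpen f))) b).mp h
  exact ⟨n, hn⟩

lemma exists_res_eq_mul {U : X.Opens} (hU : IsAffineOpen U) (f : Γ(X, U))
    (b : B.presheaf.obj (op (X.basicOpen f))) :
    ∃ (n : ℕ) (c : B.presheaf.obj (op U)), res B (X.basicOpen_le f) c =
      str B _ (X.presheaf.map (homOfLE (X.basicOpen_le f)).op f) ^ n * b := by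
  letI := (res B (X.basicOpen_le f)).toAlgebra
  haveI : IsLocalization.Away (str B U f) (B.presheaf.obj (op (X.basicOpen f))) := B.isQC U hU f
  obtain ⟨n, c, hc⟩ := IsLocalization.Away.surj (str B U f) b
  refine ⟨n, c, ?_⟩
  rw [mul_comm, ← res_str B (X.basicOpen_le f)]
  exact hc.symm

lemma isQuasicoherent_toModule : B.toModule.IsQuasicoherent := by
  refine Groth.Agent.QCohLib.isQuasicoherent_of_sections (fun U f x hx => ?_) (fun U f s => ?_)
  · obtain ⟨n, hn⟩ := exists_pow_mul_of_res_eq_zero B U.2 f x hx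
    refine ⟨n, ?_⟩
    change str B U.1 (f ^ n) * _ = 0
    rw [map_pow]; exact hn
  · obtain ⟨n, c, hc⟩ := exists_res_eq_mul B U.2 f s
    refine ⟨n, c, ?_⟩
    refine hc.trans ?_
    change _ = str B _ (_ ^ n) * _
    rw [map_pow]

variable {B} (M : Sub B.toModule)

/-- The subring generated by functions and sections in `M`. -/
def genRing (U : X.Opens) : Subring (B.presheaf.obj (op U)) :=
  Subring.closure (Set.range (str B U) ∪ {b | sec B b ∈ sectSub B.toModule M U})

lemma str_mem_genRing {U : X.Opens} (r : Γ(X, U)) : str B U r ∈ genRing M U :=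
  Subring.subset_closure (Or.inl ⟨r, rfl⟩)

lemma res_mem_genRing {U V : X.Opens} (h : V ≤ U) {b : B.presheaf.obj (op U)} (hb : b ∈ genRing M U) :
    res B h b ∈ genRing M V := by
  induction hb using Subring.closure_induction with
  | mem b hb =>
    rcases hb with ⟨r, rfl⟩ | hb
    · rw [res_str]; exact str_mem_genRing M _
    · exact Subring.subset_closure (Or.inr ((presheafSub B.toModule M).map (homOfLE h).op hb))
  | zero => rw [map_zero]; exact zero_mem _
  | one => rw [map_one]; exact one_mem _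
  | add _ _ _ _ ha hb => rw [map_add]; exact add_mem ha hb
  | neg _ _ ha => rw [map_neg]; exact neg_mem ha
  | mul _ _ _ _ ha hb => rw [map_mul]; exact mul_mem ha hb

lemma exists_pow_mul_mem_genRing (hM : GenOn M ⊤) {U : X.Opens} (hU : IsAffineOpen U) (g : Γ(X, U))
    {z : B.presheaf.obj (op (X.basicOpen g))} (hz : z ∈ genRing M (X.basicOpen g)) :
    ∃ (n : ℕ) (c : B.presheaf.obj (op U)), c ∈ genRing M U ∧
      res B (X.basicOpen_le g) c = res B (X.basicOpen_le g) (str B U g) ^ n * z := by
  haveI := isQuasicoherent_toModule B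
  haveI := Groth.Agent.SubSheafExt.isQuasicoherent_toModule (F := B.toModule) hM
  induction hz using Subring.closure_induction with
  | mem z hz =>
    rcases hz with ⟨r, rfl⟩ | hz
    · letI := (X.presheaf.map (homOfLE (X.basicOpen_le g)).op).hom.toAlgebra
      haveI : IsLocalization.Away g Γ(X, X.basicOpen g) := hU.isLocalization_basicOpen g
      obtain ⟨n, a, ha⟩ := IsLocalization.Away.surj g r
      refine ⟨n, str B U a, str_mem_genRing M a, ?_⟩
      rw [res_str, res_str, ← map_pow, ← map_mul, mul_comm]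
      exact congrArg _ ha.symm
    · obtain ⟨n, x, hx⟩ := Groth.Agent.QCohLib.exists_res_eq_pow_smul (M := toModule B.toModule M) hU g _
        (X.basicOpen_le g) rfl ⟨sec B z, hz⟩
      refine ⟨n, x.1, Subring.subset_closure (Or.inr x.2), ?_⟩
      refine (congrArg Subtype.val hx).trans ?_
      change str B _ (_ ^ n) * z = _
      rw [map_pow, res_str]
      rfl
  | zero => exact ⟨0, 0, zero_mem _, by rw [map_zero, mul_zero]⟩
  | one => exact ⟨0, 1, one_mem _, by rw [map_one, pow_zero, mul_one]⟩
  | add a b _ _ ha hb =>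
    obtain ⟨n, c, hc, e⟩ := ha
    obtain ⟨n', c', hc', e'⟩ := hb
    refine ⟨n + n', str B U g ^ n' * c + str B U g ^ n * c',
      add_mem (mul_mem (pow_mem (str_mem_genRing M g) _) hc) (mul_mem (pow_mem (str_mem_genRing M g) _) hc'), ?_⟩
    rw [map_add, map_mul, map_mul, map_pow, map_pow, e, e', pow_add]
    ring
  | neg a _ ha =>
    obtain ⟨n, c, hc, e⟩ := ha
    exact ⟨n, -c, neg_mem hc, by rw [map_neg, e, mul_neg]⟩
  | mul a b _ _ ha hb =>
    obtain ⟨n, c, hc, e⟩ := ha
    obtain ⟨n', c', hc', e'⟩ := hb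
    exact ⟨n + n', c * c', mul_mem hc hc', by rw [map_mul, e, e', pow_add]; ring⟩

/-- Generation may be checked on an affine cover. -/
lemma genRing_eq_top (hM : GenOn M ⊤) {ι : Type*} (W : ι → X.affineOpens) (hW : ∀ x : X, ∃ i, x ∈ (W i).1)
    (h : ∀ i, genRing M (W i).1 = ⊤) {U : X.Opens} (hU : IsAffineOpen U) : genRing M U = ⊤ := by
  refine eq_top_iff.mpr fun b _ => ?_
  let J : Ideal Γ(X, U) :=
    { carrier := {r | str B U r * b ∈ genRing M U}
      add_mem' := fun {p q} hp hq => by
        change str B U (p + q) * b ∈ genRing M U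
        rw [map_add, add_mul]; exact add_mem hp hq
      zero_mem' := by
        change str B U 0 * b ∈ genRing M U
        rw [map_zero, zero_mul]; exact zero_mem _
      smul_mem' := fun p q hq => by
        change str B U (p * q) * b ∈ genRing M U
        rw [map_mul, mul_assoc]; exact mul_mem (str_mem_genRing M p) hq }
  suffices J = ⊤ by
    have h1 : str B U 1 * b ∈ genRing M U := (J.eq_top_iff_one).mp this
    rwa [map_one, one_mul] at h1
  by_contra hJ
  obtain ⟨m, hm, hJm⟩ := Ideal.exists_le_maximal J hJ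
  let y := hU.fromSpec ⟨m, hm.isPrime⟩
  have hy : y ∈ U := by
    change y ∈ (U : Set X)
    rw [← hU.range_fromSpec]
    exact Set.mem_range_self _
  have hp : hU.primeIdealOf ⟨y, hy⟩ = ⟨m, hm.isPrime⟩ :=
    hU.fromSpec.isOpenEmbedding.injective (hU.fromSpec_primeIdealOf _)
  obtain ⟨i, hi⟩ := hW y
  obtain ⟨g, g', hgg', hyg⟩ := exists_basicOpen_le_affine_inter hU (W i).2 y ⟨hy, hi⟩
  obtain ⟨n, c, hc⟩ := exists_res_eq_mul B (W i).2 g'
    (res B hgg'.ge (res B (X.basicOpen_le g) b))
  have hmem : res B (X.basicOpen_le g') c ∈ genRing M (X.basicOpen g') :=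
    res_mem_genRing M _ (by rw [h i]; trivial)
  have hu : IsUnit (X.presheaf.map (homOfLE (X.basicOpen_le g')).op g') :=
    X.toRingedSpace.isUnit_res_basicOpen g'
  obtain ⟨w, hw⟩ := hu.exists_left_inv
  have hb' : res B hgg'.ge (res B (X.basicOpen_le g) b) ∈ genRing M (X.basicOpen g') := by
    have h2 := mul_mem (pow_mem (str_mem_genRing M w) n) hmem
    rwa [hc, ← mul_assoc, ← mul_pow, ← map_mul, hw, map_one, one_pow, one_mul] at h2
  have hb'' := res_mem_genRing M hgg'.le hb'
  rw [res_res, show res B (hgg'.le.trans hgg'.ge) (res B (X.basicOpen_le g) b) = res B (X.basicOpen_le g) b from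
    res_res B _ _ b] at hb''
  obtain ⟨k, c', hc', e⟩ := exists_pow_mul_mem_genRing M hM hU g hb''
  rw [← map_pow, ← map_mul, ← sub_eq_zero, ← map_sub] at e
  obtain ⟨l, hl⟩ := exists_pow_mul_of_res_eq_zero B hU g _ e
  have hgJ : g ^ (l + k) ∈ J := by
    change str B U (g ^ (l + k)) * b ∈ genRing M U
    rw [mul_sub, sub_eq_zero] at hl
    rw [map_pow, pow_add, mul_assoc, ← hl]
    exact mul_mem (pow_mem (str_mem_genRing M g) _) hc'
  have := (Groth.Agent.QCohLib.mem_basicOpen_iff_notMem_primeIdealOf hU hy g).mp hyg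
  rw [hp] at this
  exact this (hm.isPrime.mem_of_pow_mem _ (hJm hgJ))

/-- A finite type quasi-coherent submodule generating a finite type algebra. -/
lemma exists_generating_sub [CompactSpace X] (B : RelSpec.QCAlg X)
    (hB : ∀ U : X.affineOpens, (B.str.app (op (U : X.Opens))).hom.FiniteType)
    (H : ∀ {U : X.Opens}, IsAffineOpen U → ∀ s : Γ(B.toModule, U),
      ∃ M : Sub B.toModule, GenOn M ⊤ ∧ ∀ (y : X) (hy : y ∈ U), B.toModule.presheaf.germ U y hy s ∈ M y) :
    ∃ (E : X.Modules) (j : E ⟶ B.toModule), Mono j ∧ E.IsQuasicoherent ∧ E.IsFiniteType ∧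
      ∀ U : X.affineOpens,
        Subring.closure (Set.range (B.str.app (op (U : X.Opens))).hom ∪
          Set.range (fun e : E.val.obj (op (U : X.Opens)) ↦
            (show B.presheaf.obj (op (U : X.Opens)) from (j.val.app (op (U : X.Opens))).hom e))) = ⊤ := by
  classical
  haveI := isQuasicoherent_toModule B
  obtain ⟨κ, hκ, W, hW, -, hsup⟩ :=
    Groth.Agent.QCohLib.exists_finite_affine_cover (X := X) (U := ⊤) CompactSpace.isCompact_univ
  have hgen : ∀ a, ∃ T : Finset (B.presheaf.obj (op (W a))),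
      Subring.closure (Set.range (str B (W a)) ∪ (T : Set _)) = ⊤ := by
    intro a
    algebraize [str B (W a)]
    haveI : Algebra.FiniteType Γ(X, W a) (B.presheaf.obj (op (W a))) := hB ⟨W a, hW a⟩
    obtain ⟨T, hT⟩ := Algebra.FiniteType.out (R := Γ(X, W a)) (A := B.presheaf.obj (op (W a)))
    refine ⟨T, eq_top_iff.mpr fun b _ => ?_⟩
    have hb : b ∈ Algebra.adjoin Γ(X, W a) (T : Set (B.presheaf.obj (op (W a)))) := by rw [hT]; trivial
    rw [← Subalgebra.mem_toSubring, Algebra.adjoin_eq_ring_closure] at hb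
    exact hb
  choose T hT using hgen
  choose M hM hs using fun (p : Σ a, {t // t ∈ T a}) => H (hW p.1) (sec B p.2.1)
  let M' : Sub B.toModule := fun y => Finset.univ.sup fun p => M p y
  have hM' : GenOn M' ⊤ := genOn_finset_sup _ _ fun p _ => hM p
  refine ⟨toModule B.toModule M', toModuleι B.toModule M', inferInstance,
    Groth.Agent.SubSheafExt.isQuasicoherent_toModule hM', isFiniteType_toModule hM', fun U => ?_⟩
  have h1 : ∀ a, genRing M' (W a) = ⊤ := fun a => by
    refine eq_top_iff.mpr ((hT a).ge.trans (Subring.closure_mono (Set.union_subset_union_right _ ?_)))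
    exact fun t ht y hy => (Finset.le_sup (f := fun p => M p y) (Finset.mem_univ (⟨a, t, ht⟩ : Σ a, {t // t ∈ T a})))
      (hs ⟨a, t, ht⟩ y hy)
  have h2 := genRing_eq_top M' hM' (fun a => (⟨W a, hW a⟩ : X.affineOpens))
    (fun x => Opens.mem_iSup.mp (hsup (Opens.mem_top x))) h1 U.2
  refine eq_top_iff.mpr (h2.ge.trans (Subring.closure_mono (Set.union_subset_union_right _ ?_)))
  exact fun b hb => ⟨⟨b, hb⟩, rfl⟩

end Groth.Agent.QCAlgGen
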